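import Mathlib
import Cfsg.Prelude.Def_Characters
import Cfsg.Agent.Lib.CharDeg.Degree

/-!
# Irreducible constituents

A representation of a finite group is spanned by its irreducible subrepresentations; models on
coordinate spaces; a faithful irreducible representation exists as soon as some non-identity
element lies in every nontrivial normal subgroup.
-/

set_option autoImplicit false
set_option linter.style.haveILetI false

namespace CfsgLib.CharDeg

open Representation Module

variable {G : Type*} [Group G] {V : Type*} [AddCommGroup V] [Module ℂ V] [FiniteDimensional ℂ V]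

/-- A nonzero invariant subspace contains an irreducible subrepresentation. -/
theorem exists_irreducible_le (ρ : Representation ℂ G V) (W : Submodule ℂ V)
    (hW : ∀ g : G, ∀ v ∈ W, ρ g v ∈ W) (hW0 : W ≠ ⊥) :
    ∃ A : Subrepresentation ρ, A.toSubmodule ≤ W ∧ A.toRepresentation.IsIrreducible := by
  classical
  have hex : ∃ n : ℕ, ∃ U : Submodule ℂ V, U ≠ ⊥ ∧ U ≤ W ∧ (∀ g : G, ∀ v ∈ U, ρ g v ∈ U) ∧
      finrank ℂ U = n := ⟨_, W, hW0, le_rfl, hW, rfl⟩
  obtain ⟨U, hU0, hUW, hU, hn⟩ := Nat.find_spec hex
  refine ⟨⟨U, fun g v hv => hU g v hv⟩, hUW, ?_⟩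
  have : Nontrivial U := Submodule.nontrivial_iff_ne_bot.mpr hU0
  apply isIrreducible_of_invariant
  intro X hX
  by_cases hX0 : X = ⊥
  · exact Or.inl hX0
  right
  have h1 : X.map U.subtype ≠ ⊥ := by
    intro e
    apply hX0
    rw [eq_bot_iff]
    intro x hx
    have : (x : V) ∈ X.map U.subtype := ⟨x, hx, rfl⟩
    rw [e, Submodule.mem_bot] at this
    exact Subtype.ext this
  have hle := Nat.find_min' hex ⟨X.map U.subtype, h1, (Submodule.map_subtype_le _ _).trans hUW, by
    rintro g _ ⟨x, hx, rfl⟩
    exact ⟨_, hX g x hx, rfl⟩, rfl⟩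
  rw [← hn, Submodule.finrank_map_subtype_eq] at hle
  exact Submodule.eq_top_of_finrank_eq (le_antisymm (Submodule.finrank_le _) hle)

/-- A subspace containing every irreducible subrepresentation is everything. -/
theorem eq_top_of_forall_irreducible [Finite G] (ρ : Representation ℂ G V) (K : Submodule ℂ V)
    (h : ∀ A : Subrepresentation ρ, A.toRepresentation.IsIrreducible → A.toSubmodule ≤ K) :
    K = ⊤ := by
  classical
  have : NeZero (Nat.card G : ℂ) := ⟨Nat.cast_ne_zero.mpr Nat.card_pos.ne'⟩
  let W : Submodule ℂ V := ⨅ g : G, K.comap (ρ g)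
  have hW : ∀ v, v ∈ W ↔ ∀ g : G, ρ g v ∈ K := fun v => by simp [W]
  let W' : Subrepresentation ρ := ⟨W, fun g v hv => by
    rw [hW] at hv ⊢
    intro x
    rw [← Module.End.mul_apply, ← map_mul]
    exact hv _⟩
  obtain ⟨U, hU⟩ := exists_isCompl W'
  have hWK : W ≤ K := fun v hv => by simpa using (hW v).mp hv 1
  by_cases hU0 : U.toSubmodule = ⊥
  · have h1 := congrArg Subrepresentation.toSubmodule hU.sup_eq_top
    rw [Subrepresentation.toSubmodule_sup, hU0, sup_bot_eq] at h1
    exact top_le_iff.mp (le_of_eq_of_le h1.symm hWK)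
  · exfalso
    obtain ⟨A, hAU, hA⟩ := exists_irreducible_le ρ U.toSubmodule
      (fun g v hv => U.apply_mem_toSubmodule g hv) hU0
    have hAW : A.toSubmodule ≤ W := fun v hv =>
      (hW v).mpr fun g => h A hA (A.apply_mem_toSubmodule g hv)
    have h1 := congrArg Subrepresentation.toSubmodule hU.inf_eq_bot
    rw [Subrepresentation.toSubmodule_inf] at h1
    have h2 : A.toSubmodule = ⊥ := le_bot_iff.mp (le_of_le_of_eq (le_inf hAW hAU) h1)
    have := nontrivial_of_isIrreducible A.toRepresentation
    rw [Submodule.nontrivial_iff_ne_bot] at this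
    exact this h2

/-- Two linear maps that agree on every irreducible subrepresentation are equal. -/
theorem eq_of_forall_irreducible [Finite G] (ρ : Representation ℂ G V) {M : Type*} [AddCommGroup M]
    [Module ℂ M] (f f' : V →ₗ[ℂ] M)
    (h : ∀ A : Subrepresentation ρ, A.toRepresentation.IsIrreducible →
      ∀ v ∈ A.toSubmodule, f v = f' v) : f = f' := by
  have := eq_top_of_forall_irreducible ρ (LinearMap.eqLocus f f') (fun A hA v hv => h A hA v hv)
  ext v
  have hv : v ∈ LinearMap.eqLocus f f' := this ▸ Submodule.mem_top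
  exact hv

/-- Two group elements acting differently act differently on some irreducible
subrepresentation. -/
theorem exists_irreducible_of_ne [Finite G] (ρ : Representation ℂ G V) {a b : G}
    (hab : ρ a ≠ ρ b) : ∃ A : Subrepresentation ρ, A.toRepresentation.IsIrreducible ∧
      A.toRepresentation a ≠ A.toRepresentation b := by
  by_contra h
  push Not at h
  refine hab (eq_of_forall_irreducible ρ _ _ fun A hA v hv => ?_)
  exact congrArg Subtype.val (LinearMap.congr_fun (h A hA) ⟨v, hv⟩)

/-- Operators of a representation of degree one commute. -/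
theorem comm_of_finrank_eq_one (ρ : Representation ℂ G V) (h : finrank ℂ V = 1) (a b : G) :
    ρ (a * b) = ρ (b * a) := by
  obtain ⟨v, hv0, hv⟩ := finrank_eq_one_iff'.mp h
  obtain ⟨c, hc⟩ := hv (ρ a v)
  obtain ⟨d, hd⟩ := hv (ρ b v)
  ext w
  obtain ⟨e, rfl⟩ := hv w
  simp only [map_mul, Module.End.mul_apply, map_smul, ← hc, ← hd, smul_smul]
  congr 1; ring

/-- The representation transported to a coordinate space. -/
noncomputable def finModel (ρ : Representation ℂ G V) :
    Representation ℂ G (Fin (finrank ℂ V) → ℂ) :=
  ((finBasis ℂ V).equivFun.conjRingEquiv : Module.End ℂ V →* Module.End ℂ _).comp ρ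

theorem finModel_apply (ρ : Representation ℂ G V) (g : G) (v : V) :
    finModel ρ g ((finBasis ℂ V).equivFun v) = (finBasis ℂ V).equivFun (ρ g v) := by
  simp [finModel]

theorem finModel_character (ρ : Representation ℂ G V) : (finModel ρ).character = ρ.character := by
  funext g
  exact LinearMap.trace_conj' (ρ g) (finBasis ℂ V).equivFun

theorem finModel_eq_iff (ρ : Representation ℂ G V) (a b : G) :
    finModel ρ a = finModel ρ b ↔ ρ a = ρ b :=
  (finBasis ℂ V).equivFun.conjRingEquiv.injective.eq_iff

theorem finModel_isIrreducible (ρ : Representation ℂ G V) [ρ.IsIrreducible] :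
    (finModel ρ).IsIrreducible := by
  have := nontrivial_of_isIrreducible ρ
  have : Nontrivial (Fin (finrank ℂ V) → ℂ) := (finBasis ℂ V).equivFun.symm.nontrivial
  apply isIrreducible_of_invariant
  intro W hW
  rcases eq_bot_or_eq_top_of_invariant ρ (W.comap (finBasis ℂ V).equivFun.toLinearMap) (by
    intro g v hv
    rw [Submodule.mem_comap] at hv ⊢
    have := hW g _ hv
    rw [LinearEquiv.coe_coe, finModel_apply] at this
    exact this) with h | h
  · left
    rw [eq_bot_iff]
    intro w hw
    obtain ⟨v, rfl⟩ := (finBasis ℂ V).equivFun.surjective w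
    have : v ∈ W.comap (finBasis ℂ V).equivFun.toLinearMap := hw
    rw [h, Submodule.mem_bot] at this
    simp [this]
  · right
    rw [eq_top_iff]
    intro w _
    obtain ⟨v, rfl⟩ := (finBasis ℂ V).equivFun.surjective w
    have : v ∈ W.comap (finBasis ℂ V).equivFun.toLinearMap := h ▸ Submodule.mem_top
    exact this

theorem isIrrCharacter_character (ρ : Representation ℂ G V) [ρ.IsIrreducible] :
    Cfsg.IsIrrCharacter G ρ.character :=
  ⟨_, finModel ρ, finModel_isIrreducible ρ, finModel_character ρ⟩

theorem isCharacter_character (ρ : Representation ℂ G V) : Cfsg.IsCharacter G ρ.character :=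
  ⟨_, finModel ρ, finModel_character ρ⟩

/-- Distinct elements of a finite group are separated by an irreducible representation. -/
theorem exists_irreducible_separating [Finite G] {a b : G} (hab : a ≠ b) :
    ∃ (n : ℕ) (ρ : Representation ℂ G (Fin n → ℂ)), ρ.IsIrreducible ∧ ρ a ≠ ρ b := by
  classical
  have h : Representation.leftRegular ℂ G a ≠ Representation.leftRegular ℂ G b := by
    intro h
    have := LinearMap.congr_fun h (MonoidAlgebra.single 1 1)
    simp only [Representation.ofMulAction_single, smul_eq_mul, mul_one] at this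
    exact hab (MonoidAlgebra.single_left_injective one_ne_zero this)
  obtain ⟨A, hA, hne⟩ := exists_irreducible_of_ne _ h
  exact ⟨_, finModel A.toRepresentation, finModel_isIrreducible _,
    fun e => hne ((finModel_eq_iff _ _ _).mp e)⟩

/-- If a non-identity element lies in every nontrivial normal subgroup, there is a faithful
irreducible representation. -/
theorem exists_faithful_irreducible [Finite G] {z : G} (hz : z ≠ 1)
    (h : ∀ N : Subgroup G, N.Normal → N ≠ ⊥ → z ∈ N) :
    ∃ (n : ℕ) (ρ : Representation ℂ G (Fin n → ℂ)), ρ.IsIrreducible ∧ Function.Injective ρ := by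
  obtain ⟨n, ρ, hρ, hne⟩ := exists_irreducible_separating hz
  refine ⟨n, ρ, hρ, ?_⟩
  rw [← MonoidHom.ker_eq_bot_iff]
  by_contra hk
  exact hne (by rw [map_one]; exact h _ inferInstance hk)

omit [FiniteDimensional ℂ V] in
/-- A subgroup acting faithfully by scalars on a nonzero space is cyclic. -/
theorem isCyclic_of_scalar [Finite G] [Nontrivial V] (ρ : Representation ℂ G V)
    (hρ : Function.Injective ρ) (Z : Subgroup G)
    (hZ : ∀ z ∈ Z, ∃ c : ℂ, ρ z = c • (1 : V →ₗ[ℂ] V)) : IsCyclic Z := by
  choose c hc using hZ
  have hinj : Function.Injective fun c : ℂ => c • (1 : V →ₗ[ℂ] V) :=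
    smul_left_injective ℂ (one_ne_zero (α := V →ₗ[ℂ] V))
  let f : Z →* ℂ :=
    { toFun := fun z => c z z.2
      map_one' := hinj (by simp only; rw [← hc]; simp)
      map_mul' := fun a b => hinj (by
        simp only
        rw [← hc, ← smul_smul, ← hc, ← smul_one_mul, ← hc]
        simp) }
  refine isCyclic_of_injective_ringHom f fun a b hab => ?_
  apply Subtype.ext
  apply hρ
  rw [hc a a.2, hc b b.2]
  exact congrArg (fun c : ℂ => c • (1 : V →ₗ[ℂ] V)) hab

/-- The centre of a group with a faithful irreducible representation is cyclic. -/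
theorem isCyclic_center_of_faithful [Finite G] (ρ : Representation ℂ G V) [ρ.IsIrreducible]
    (hρ : Function.Injective ρ) : IsCyclic (Subgroup.center G) := by
  have := nontrivial_of_isIrreducible ρ
  exact isCyclic_of_scalar ρ hρ _ fun _ hz => exists_eq_smul_of_mem_center ρ hz

/-- If two elements do not commute in the image of a representation, some irreducible
subrepresentation has degree different from one. -/
theorem exists_irreducible_finrank_ne_one [Finite G] (ρ : Representation ℂ G V) {a b : G}
    (hab : ρ (a * b) ≠ ρ (b * a)) : ∃ A : Subrepresentation ρ, A.toRepresentation.IsIrreducible ∧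
      finrank ℂ A.toSubmodule ≠ 1 := by
  obtain ⟨A, hA, hne⟩ := exists_irreducible_of_ne ρ hab
  exact ⟨A, hA, fun h => hne (comm_of_finrank_eq_one _ h a b)⟩

/-- If two elements do not commute in the image of a representation, the degree is at least
some prime divisor of the group order. -/
theorem exists_prime_le_finrank [Finite G] (ρ : Representation ℂ G V) {a b : G}
    (hab : ρ (a * b) ≠ ρ (b * a)) : ∃ p : ℕ, p.Prime ∧ p ∣ Nat.card G ∧ p ≤ finrank ℂ V := by
  obtain ⟨A, hA, hne⟩ := exists_irreducible_finrank_ne_one ρ hab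
  obtain ⟨p, hp, hpd⟩ := Nat.exists_prime_and_dvd hne
  exact ⟨p, hp, hpd.trans (finrank_dvd_card A.toRepresentation),
    (Nat.le_of_dvd (finrank_pos_of_isIrreducible A.toRepresentation) hpd).trans
      (Submodule.finrank_le _)⟩

end CfsgLib.CharDeg
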